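import Mathlib
import Groth.Agent.S15900
import Groth.Agent.S8914
import Groth.Agent.H1KoszTw.Basic
import Groth.Agent.IdealSub.OfMono
import Groth.Agent.OmegaLib.IdealMod
import Groth.Agent.AmpleVan.Mul
import Groth.Agent.NefCurve.UnitTmul
import Groth.Agent.QCoh.DevissageSum
import Groth.Agent.QCoh.Support
import Groth.Agent.QCoh.ClosedPush
import Groth.Agent.ExtLoc7.QCoh
import Groth.Agent.KFlatLib.Perfect.Tensor

/-!
# Koszul complexes of twisted divisors: local tools
-/

noncomputable section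

set_option linter.style.haveILetI false
set_option backward.isDefEq.respectTransparency false
set_option backward.isDefEq.respectTransparency.types false

universe u

open CategoryTheory CategoryTheory.Limits AlgebraicGeometry TopologicalSpace Opposite

namespace Groth.Agent.H1KoszSq

variable {X : Scheme.{u}} {M N T : X.Modules}

/-- A predicate on affine opens containing a basis. -/
def Covers (P : X.affineOpens → Prop) : Prop :=
  ∀ (U : X.Opens) (x : X), x ∈ U → ∃ V : X.affineOpens, P V ∧ x ∈ V.1 ∧ V.1 ≤ U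

variable {P : X.affineOpens → Prop} (hP : Covers P)
include hP

lemma hom_eq_zero (φ : M ⟶ N) (h : ∀ V, P V → ∀ z : Γ(M, V.1), φ.app V.1 z = 0) : φ = 0 := by
  refine H1KoszTw.hom_eq_zero_of_locally φ fun U z x hx => ?_
  obtain ⟨V, hV, hxV, hle⟩ := hP U x hx
  exact ⟨V.1, hle, hxV, h V hV _⟩

lemma mono_of (φ : M ⟶ N) (h : ∀ V, P V → ∀ z : Γ(M, V.1), φ.app V.1 z = 0 → z = 0) : Mono φ := by
  refine Preadditive.mono_of_cancel_zero _ fun g hg => hom_eq_zero hP g fun V hV z => h V hV _ ?_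
  exact congr(($hg).app V.1 z)

lemma epi_of (φ : M ⟶ N) (h : ∀ V, P V → Function.Surjective (φ.app V.1)) : Epi φ := by
  refine Preadditive.epi_of_cancel_zero _ fun g hg => hom_eq_zero hP g fun V hV z => ?_
  obtain ⟨y, rfl⟩ := h V hV z
  exact congr(($hg).app V.1 y)

omit hP

lemma app_biprod_lift (f : T ⟶ M) (g : T ⟶ N) (V : X.Opens) (w : Γ(T, V)) (hf : f.app V w = 0)
    (hg : g.app V w = 0) : (biprod.lift f g).app V w = 0 := by
  rw [biprod.lift_eq]
  show (biprod.inl : M ⟶ M ⊞ N).app V (f.app V w) + (biprod.inr : N ⟶ M ⊞ N).app V (g.app V w) = 0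
  rw [hf, hg, map_zero, map_zero, add_zero]

/-- A section of a fibre product with zero projections is zero. -/
lemma pullback_ext {A B C : X.Modules} (f : A ⟶ C) (g : B ⟶ C) (V : X.Opens) (w : Γ(pullback f g, V))
    (h1 : (pullback.fst f g).app V w = 0) (h2 : (pullback.snd f g).app V w = 0) : w = 0 := by
  let j := biprod.lift (pullback.fst f g) (pullback.snd f g)
  haveI : Mono j := Preadditive.mono_of_cancel_zero _ fun k hk => by
    refine pullback.hom_ext ?_ ?_
    · rw [zero_comp]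
      simpa [j] using congrArg (· ≫ biprod.fst) hk
    · rw [zero_comp]
      simpa [j] using congrArg (· ≫ biprod.snd) hk
  exact QCoh.app_injective j V ((app_biprod_lift _ _ V w h1 h2).trans (map_zero _).symm)

/-- Exactness on the sections over an affine open at a cokernel. -/
lemma exists_app_of_cokernel (hM : Coh.IsQCoh M) (hN : Coh.IsQCoh N) (f : M ⟶ N)
    {U : X.Opens} (hU : IsAffineOpen U) (y : Γ(N, U)) (hy : (cokernel.π f).app U y = 0) :
    ∃ x, f.app U x = y := by
  obtain ⟨z, hz⟩ := QCoh.exists_kernel_lift (cokernel.π f) U y hy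
  obtain ⟨x, hx⟩ := QCoh.app_surjective_of_epi hM
    (QCoh.isQCoh_kernel hN (QCoh.isQCoh_cokernel hM hN f) _) (Abelian.factorThruImage f) hU z
  refine ⟨x, ?_⟩
  rw [← hz, ← hx]
  exact (congr(($(Abelian.image.fac f)).app U x)).symm

section Complex

variable (K : ChainComplex X.Modules ℕ) (hK : ∀ p, Coh.IsQCoh (K.X p)) (q : ℕ)
include hK

lemma isQCoh_cycles : Coh.IsQCoh (K.cycles q) :=
  (QCoh.isQCoh_iff_iso ((K.cyclesIsKernel q _ rfl).conePointUniqueUpToIso
    (kernelIsKernel (K.d q ((ComplexShape.down ℕ).next q))))).2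
    (QCoh.isQCoh_kernel (hK _) (hK _) _)

lemma isQCoh_homology : Coh.IsQCoh (K.homology q) :=
  (QCoh.isQCoh_iff_iso ((K.homologyIsCokernel (q + 1) q (by simp)).coconePointUniqueUpToIso
    (cokernelIsCokernel (K.toCycles (q + 1) q)))).2
    (QCoh.isQCoh_cokernel (hK _) (isQCoh_cycles K hK q) _)

/-- Sections killed by the projection to homology are boundaries, over affine opens. -/
lemma exists_toCycles {V : X.Opens} (hV : IsAffineOpen V) (z : Γ(K.cycles q, V))
    (hz : (K.homologyπ q).app V z = 0) : ∃ b, (K.toCycles (q + 1) q).app V b = z := by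
  refine exists_app_of_cokernel (hK _) (isQCoh_cycles K hK q) _ hV z ?_
  let hc := K.homologyIsCokernel (q + 1) q (by simp)
  let l := hc.desc (CokernelCofork.ofπ (cokernel.π (K.toCycles (q + 1) q)) (cokernel.condition _))
  have hl : K.homologyπ q ≫ l = cokernel.π (K.toCycles (q + 1) q) :=
    hc.fac _ WalkingParallelPair.one
  rw [← hl]
  show l.app V ((K.homologyπ q).app V z) = 0
  rw [hz, map_zero]

lemma surjective_homologyπ {V : X.Opens} (hV : IsAffineOpen V) :
    Function.Surjective ((K.homologyπ q).app V) :=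
  QCoh.app_surjective_of_epi (isQCoh_cycles K hK q) (isQCoh_homology K hK q) _ hV

omit hK

/-- Sections killed by the differential are cycles. -/
lemma exists_cycle {V : X.Opens} (m : Γ(K.X q, V))
    (hm : (K.d q ((ComplexShape.down ℕ).next q)).app V m = 0) : ∃ z, (K.iCycles q).app V z = m := by
  obtain ⟨w, rfl⟩ := QCoh.exists_kernel_lift _ V m hm
  refine ⟨(K.liftCycles (kernel.ι (K.d q ((ComplexShape.down ℕ).next q))) _ rfl (kernel.condition _)).app V w, ?_⟩
  exact congr(($(K.liftCycles_i (kernel.ι (K.d q ((ComplexShape.down ℕ).next q))) _ rfl (kernel.condition _))).app V w)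

lemma d_iCycles_app {V : X.Opens} (z : Γ(K.cycles q, V)) (j : ℕ) :
    (K.d q j).app V ((K.iCycles q).app V z) = 0 :=
  congr(($(K.iCycles_d q j)).app V z)

lemma iCycles_injective {V : X.Opens} : Function.Injective ((K.iCycles q).app V) :=
  QCoh.app_injective _ V

lemma toCycles_i_app {V : X.Opens} (b : Γ(K.X (q + 1), V)) :
    (K.iCycles q).app V ((K.toCycles (q + 1) q).app V b) = (K.d (q + 1) q).app V b :=
  congr(($(K.toCycles_i (q + 1) q)).app V b)

end Complex

section Ideal

variable (J : X.IdealSheafData)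

/-- The quotient by an ideal sheaf. -/
abbrev TK : X.Modules ⥤ X.Modules :=
  Scheme.Modules.pullback J.subschemeι ⋙ Scheme.Modules.pushforward J.subschemeι

/-- The projection. -/
abbrev ηK (M : X.Modules) : M ⟶ (TK J).obj M :=
  (Scheme.Modules.pullbackPushforwardAdjunction J.subschemeι).unit.app M

lemma ηK_app {M : X.Modules} (hM : Coh.IsQCoh M) (U : X.affineOpens) :
    Function.Surjective ((ηK J M).app U.1) ∧
      ∀ m, (ηK J M).app U.1 m = 0 ↔ m ∈ J.ideal U • (⊤ : Submodule Γ(X, U.1) Γ(M, U.1)) := by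
  obtain ⟨h1, h2⟩ := QCoh.unit_app_closed J.subschemeι hM U.2
  rw [Scheme.IdealSheafData.ker_subschemeι] at h2
  exact ⟨h1, h2⟩

variable {J} {V : X.affineOpens} {ε : Γ(ClSub.idealMod J, V.1)}

/-- The ideal is generated by the value of a frame. -/
lemma ideal_eq_span (hε : InvX.IsFrame ε) :
    J.ideal V = Ideal.span {OmegaSh.idealSect J V.1 ε} := by
  refine le_antisymm (fun x hx => ?_) ((Ideal.span_singleton_le_iff_mem _).2 (OmegaLib.idealSect_mem J V ε))
  obtain ⟨k, rfl⟩ := OmegaLib.exists_of_mem J V x hx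
  obtain ⟨r, rfl⟩ := hε.exists_coord le_rfl k
  rw [AModX.res_self, OmegaLib.idealSect_smul]
  exact Ideal.mem_span_singleton'.2 ⟨r, rfl⟩

lemma eq_zero_of_mul (hε : InvX.IsFrame ε) {r : Γ(X, V.1)} (h : r * OmegaSh.idealSect J V.1 ε = 0) :
    r = 0 := by
  refine hε.coord_unique le_rfl ?_
  rw [AModX.res_self, zero_smul]
  refine OmegaLib.idealSect_injective J V.1 ?_
  rw [OmegaLib.idealSect_smul, h, OmegaSh.idealSect_apply, map_zero]
  rfl

lemma mem_nonZeroDivisors (hε : InvX.IsFrame ε) :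
    OmegaSh.idealSect J V.1 ε ∈ nonZeroDivisors Γ(X, V.1) :=
  mem_nonZeroDivisors_iff_right.2 fun _ h => eq_zero_of_mul hε h

lemma mem_span_smul_top {M : Type*} [AddCommGroup M] [Module Γ(X, V.1) M] {a : Γ(X, V.1)} {m : M} :
    m ∈ Ideal.span {a} • (⊤ : Submodule Γ(X, V.1) M) ↔ ∃ m' : M, a • m' = m := by
  rw [Submodule.ideal_span_singleton_smul, Submodule.mem_smul_pointwise_iff_exists]
  simp

variable (J)

/-- Multiplication `J^{⊗ q} → 𝒪`. -/
def mulq : ∀ q : ℕ, CohB1.tensorPow (ClSub.idealMod J) q ⟶ Coh.structureModule X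
  | 0 => 𝟙 _
  | q + 1 => (DCoh.tensorBi.obj (CohB1.tensorPow (ClSub.idealMod J) q)).map (ClSub.idealModι J) ≫
      (KFlatLib.tensorUnitIso _).hom ≫ mulq q

/-- The scalar multiplication `M ⊗ J^{⊗ q} → M`. -/
def mu (M : X.Modules) (q : ℕ) : (AmpleVan.tw (CohB1.tensorPow (ClSub.idealMod J) q)).obj M ⟶ M :=
  (DCoh.tensorBi.obj M).map (mulq J q) ≫ (KFlatLib.tensorUnitIso M).hom

/-- The frame of a power. -/
abbrev pw {V : X.Opens} (ε : Γ(ClSub.idealMod J, V)) (q : ℕ) :
    Γ(CohB1.tensorPow (ClSub.idealMod J) q, V) :=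
  KoszTw.tprod (ClSub.idealMod J) q V fun _ => ε

lemma unit_app {M : X.Modules} {V : X.Opens} (m : Γ(M, V)) (r : Γ(X, V)) :
    (KFlatLib.tensorUnitIso M).hom.app V (InvX.tmul m (show Γ(Coh.structureModule X, V) from r)) = r • m := by
  have hr : (show Γ(Coh.structureModule X, V) from r) =
      r • (show Γ(Coh.structureModule X, V) from (1 : Γ(X, V))) := (mul_one r).symm
  conv_lhs => rw [hr]
  rw [InvX.tmul_smul_right, Scheme.Modules.Hom.app_smul, NefCurve.tensorUnitIso_tmul_open]

lemma mulq_pw {V : X.Opens} (ε : Γ(ClSub.idealMod J, V)) :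
    ∀ q, (mulq J q).app V (pw J ε q) = (OmegaSh.idealSect J V ε ^ q : Γ(X, V))
  | 0 => by rw [pow_zero]; rfl
  | q + 1 => by
    show (mulq J q).app V ((KFlatLib.tensorUnitIso _).hom.app V
      (((DCoh.tensorBi.obj (CohB1.tensorPow (ClSub.idealMod J) q)).map (ClSub.idealModι J)).app V
        (InvX.tmul (pw J ε q) ε))) = _
    rw [NefCurve.app_tmul_open]
    rw [show (ClSub.idealModι J).app V ε =
      (show Γ(Coh.structureModule X, V) from OmegaSh.idealSect J V ε) from IdealSub.idealModι_app' J V ε,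
      unit_app, Scheme.Modules.Hom.app_smul, mulq_pw ε q, pow_succ']
    rfl

lemma mu_app (M : X.Modules) {V : X.Opens} (ε : Γ(ClSub.idealMod J, V)) (q : ℕ) (m : Γ(M, V)) :
    (mu J M q).app V (InvX.tmul m (pw J ε q)) = OmegaSh.idealSect J V ε ^ q • m := by
  show (KFlatLib.tensorUnitIso M).hom.app V (((DCoh.tensorBi.obj M).map (mulq J q)).app V (InvX.tmul m (pw J ε q))) = _
  rw [NefCurve.app_tmul_open, mulq_pw]
  exact unit_app m _

lemma exists_eq_tmul {M : X.Modules} {V : X.Opens} {ε : Γ(ClSub.idealMod J, V)} (hε : InvX.IsFrame ε) (q : ℕ)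
    (w : Γ((AmpleVan.tw (CohB1.tensorPow (ClSub.idealMod J) q)).obj M, V)) :
    ∃ m : Γ(M, V), w = InvX.tmul m (pw J ε q) :=
  ((H1KoszTw.tmul_frame_bijective (H1KoszTw.isFrame_tprod hε q)).2 w).imp fun _ h => h.symm

lemma eq_zero_of_tmul {M : X.Modules} {V : X.Opens} {ε : Γ(ClSub.idealMod J, V)} (hε : InvX.IsFrame ε) (q : ℕ)
    {m : Γ(M, V)} (h : InvX.tmul m (pw J ε q) = 0) : m = 0 :=
  (H1KoszTw.tmul_frame_bijective (H1KoszTw.isFrame_tprod hε q)).1
    (h.trans (AmpleVan.tmul_zero_left _).symm)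

end Ideal

end Groth.Agent.H1KoszSq
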