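import Mathlib
import Groth.Agent.H1KoszExt.Basic

/-!
# Koszul homology of a form whose range is generated by a regular sequence
-/

noncomputable section

set_option linter.style.haveILetI false

universe u

open RingTheory.Sequence

namespace Groth.Agent.H1KoszSq

open H1KoszExt

variable {R : Type u} [CommRing R] {M N : Type u} [AddCommGroup M] [Module R M] [AddCommGroup N] [Module R N]

/-- `a` is regular on Koszul homology in degree `q`. -/
def Reg (φ : M →ₗ[R] R) (a : R) (q : ℕ) : Prop :=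
  ∀ z ∈ ⋀[R]^q M, d φ z = 0 → (∃ η ∈ ⋀[R]^(q + 1) M, d φ η = a • z) → ∃ η ∈ ⋀[R]^(q + 1) M, d φ η = z

lemma map_d (f : M →ₗ[R] N) (ψ : N →ₗ[R] R) (z : ExteriorAlgebra R M) :
    ExteriorAlgebra.map f (d (ψ.comp f) z) = d ψ (ExteriorAlgebra.map f z) := by
  induction z using CliffordAlgebra.left_induction with
  | algebraMap r =>
    rw [Algebra.algebraMap_eq_smul_one, map_smul, d_one, smul_zero, map_zero, map_smul, map_one, map_smul, d_one,
      smul_zero]
  | add x y hx hy => simp only [map_add, hx, hy]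
  | ι_mul x v hx =>
    rw [show CliffordAlgebra.ι (0 : QuadraticForm R M) v = ExteriorAlgebra.ι R v from rfl, d_ι_mul, map_sub,
      map_smul, map_mul, map_mul, ExteriorAlgebra.map_apply_ι, hx, d_ι_mul]
    rfl

lemma map_mem (f : M →ₗ[R] N) {q : ℕ} {z : ExteriorAlgebra R M} (hz : z ∈ ⋀[R]^q M) :
    ExteriorAlgebra.map f z ∈ ⋀[R]^q N := by
  have hle : (LinearMap.range (ExteriorAlgebra.ι R : M →ₗ[R] _)).map (ExteriorAlgebra.map f).toLinearMap ≤
      LinearMap.range (ExteriorAlgebra.ι R : N →ₗ[R] _) := by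
    rintro _ ⟨_, ⟨m, rfl⟩, rfl⟩
    exact ⟨f m, (ExteriorAlgebra.map_apply_ι f m).symm⟩
  have h : (ExteriorAlgebra.map f).toLinearMap z ∈
      (⋀[R]^q M : Submodule R (ExteriorAlgebra R M)).map (ExteriorAlgebra.map f).toLinearMap := ⟨z, hz, rfl⟩
  rw [ExteriorAlgebra.exteriorPower, Submodule.map_pow] at h
  exact pow_le_pow_left' hle q h

/-- Regularity passes to retracts. -/
lemma Reg.of_retract {φ : M →ₗ[R] R} {ψ : N →ₗ[R] R} {a : R} {q : ℕ} (J : M →ₗ[R] N) (P : N →ₗ[R] M)
    (hJ : ψ.comp J = φ) (hP : φ.comp P = ψ) (hPJ : P.comp J = LinearMap.id) (h : Reg ψ a q) : Reg φ a q := by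
  rintro z hz hdz ⟨η, hη, hd⟩
  obtain ⟨η', hη', hd'⟩ := h _ (map_mem J hz) (by rw [← map_d, hJ, hdz, map_zero])
    ⟨_, map_mem J hη, by rw [← map_d, hJ, hd, map_smul]⟩
  refine ⟨_, map_mem P hη', ?_⟩
  rw [← map_d, hP, hd', ← AlgHom.comp_apply, ExteriorAlgebra.map_comp_map, hPJ, ExteriorAlgebra.map_id]
  rfl

variable {n : ℕ} (b : Module.Basis (Fin n) R M) (φ : M →ₗ[R] R)

/-- Exactness on the first basis vectors when these have regular values. -/
lemma exact_W' (K : ℕ)
    (hreg : ∀ k, k < K → ∀ c : R, c * φ (vec b k) ∈ idl b φ k → c ∈ idl b φ k) :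
    ∀ (k : ℕ), k ≤ n → k ≤ K → ∀ (q : ℕ), ∀ w ∈ W b k (q + 1), d φ w = 0 →
      ∃ η ∈ W b k (q + 2), d φ η = w
  | 0, _, _, q, w, hw, _ => ⟨0, zero_mem _, by rw [(Submodule.mem_bot R).1 hw, map_zero]⟩
  | k + 1, hk, hK, q, w, hw, hd => by
    have ih := exact_W' K hreg k (by omega) (by omega)
    obtain ⟨α, hα, β, hβ, rfl⟩ := (mem_W_succ b).1 hw
    let ψ : M →ₗ[R] R := b.coord ⟨k, by omega⟩
    have hψk : ψ (vec b k) = 1 := by
      rw [vec, dif_pos (show k < n by omega)]
      simp [ψ]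
    have hψ : ∀ j < k, ψ (vec b j) = 0 := fun j hj => by
      rw [vec, dif_pos (show j < n by omega)]
      simp only [ψ, Module.Basis.coord_apply, Module.Basis.repr_self, Finsupp.single_apply]
      exact if_neg fun h => by simp at h; omega
    rw [map_add, d_ι_mul] at hd
    have hdβ : d φ β = 0 := by
      cases q with
      | zero =>
        rw [W_zero] at hβ
        obtain ⟨c, rfl⟩ := Submodule.mem_span_singleton.1 hβ
        rw [map_smul, d_one, smul_zero]
      | succ q =>
        have := congrArg (d ψ) hd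
        rw [map_add, map_sub, d_ι_mul, map_smul, d_eq_zero_of_W b ψ k _ hψ β hβ,
          d_eq_zero_of_W b ψ k _ hψ _ (d_mem_W b φ k _ α hα),
          d_eq_zero_of_W b ψ k _ hψ _ (d_mem_W b φ k _ β hβ), hψk] at this
        simpa using this
    rw [hdβ, mul_zero, sub_zero] at hd
    obtain ⟨γ, hγ, hγd⟩ : ∃ γ ∈ W b k (q + 1), d φ γ = β := by
      cases q with
      | zero =>
        rw [W_zero] at hβ
        obtain ⟨c, rfl⟩ := Submodule.mem_span_singleton.1 hβ
        obtain ⟨a, ha, hda⟩ := d_W_one b φ k α hα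
        rw [hda, smul_smul, ← add_smul] at hd
        have h0 : a + φ (vec b k) * c = 0 := by
          have := congrArg ExteriorAlgebra.algebraMapInv hd
          simpa using this
        refine exists_of_mem_idl b φ k (hreg k (by omega) c ?_)
        rw [mul_comm, eq_neg_of_add_eq_zero_right h0]
        exact neg_mem ha
      | succ q => exact ih q β hβ hdβ
    obtain ⟨δ, hδ, hδd⟩ := ih q (α + φ (vec b k) • γ) (add_mem hα (Submodule.smul_mem _ _ hγ))
      (by rw [map_add, map_smul, hγd]; exact hd)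
    refine ⟨δ - ExteriorAlgebra.ι R (vec b k) * γ, sub_mem (W_mono b hδ) ((mem_W_succ b).2
      ⟨0, zero_mem _, γ, hγ, by rw [zero_add]⟩), ?_⟩
    rw [map_sub, hδd, d_ι_mul, hγd]
    abel

/-- `a` is regular on the homology of the first `k` vectors. -/
def RegW (a : R) (k q : ℕ) : Prop :=
  ∀ w ∈ W b k q, d φ w = 0 → (∃ η ∈ W b k (q + 1), d φ η = a • w) → ∃ η ∈ W b k (q + 1), d φ η = w

lemma W_coord_eq_zero {k : ℕ} (hk : k < n) : ∀ {q : ℕ} {α β : ExteriorAlgebra R M}, α ∈ W b k (q + 1) → β ∈ W b k q →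
    α + ExteriorAlgebra.ι R (vec b k) * β = 0 → α = 0 ∧ β = 0 := by
  intro q α β hα hβ h
  let ψ : M →ₗ[R] R := b.coord ⟨k, hk⟩
  have hψk : ψ (vec b k) = 1 := by
    rw [vec, dif_pos hk]
    simp [ψ]
  have hψ : ∀ j < k, ψ (vec b j) = 0 := fun j hj => by
    rw [vec, dif_pos (show j < n by omega)]
    simp only [ψ, Module.Basis.coord_apply, Module.Basis.repr_self, Finsupp.single_apply]
    exact if_neg fun h => by simp at h; omega
  have h1 := congrArg (d ψ) h
  rw [map_add, d_ι_mul, d_eq_zero_of_W b ψ k _ hψ α hα, d_eq_zero_of_W b ψ k _ hψ β hβ, hψk] at h1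
  have hβ0 : β = 0 := by simpa using h1
  exact ⟨by simpa [hβ0] using h, hβ0⟩

/-- Adding a vector with value zero. -/
lemma RegW.succ {a : R} {k : ℕ} (hk : k < n) (h0 : φ (vec b k) = 0) (h : ∀ q, RegW b φ a k q) :
    ∀ q, RegW b φ a (k + 1) q := by
  intro q w hw hdw ⟨η, hη, hd⟩
  obtain ⟨γ, hγ, δ, hδ, rfl⟩ := (mem_W_succ b).1 hη
  rw [map_add, d_ι_mul, h0, zero_smul, zero_sub] at hd
  cases q with
  | zero =>
    rw [W_zero] at hδ
    obtain ⟨c, rfl⟩ := Submodule.mem_span_singleton.1 hδ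
    rw [map_smul, d_one, smul_zero, mul_zero, neg_zero, add_zero] at hd
    rw [W_zero] at hw
    obtain ⟨η', hη', hd'⟩ := h 0 w (by rw [W_zero]; exact hw) hdw ⟨γ, hγ, hd⟩
    exact ⟨η', W_mono b hη', hd'⟩
  | succ q =>
    obtain ⟨α, hα, β, hβ, rfl⟩ := (mem_W_succ b).1 hw
    have key : d φ γ = a • α ∧ -d φ δ = a • β := by
      have := W_coord_eq_zero b hk (sub_mem (d_mem_W b φ k _ γ hγ) (Submodule.smul_mem _ a hα))
        (sub_mem (neg_mem (d_mem_W b φ k _ δ hδ)) (Submodule.smul_mem _ a hβ)) (by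
          rw [mul_sub, mul_neg, mul_smul_comm]
          rw [smul_add] at hd
          linear_combination (norm := abel) hd)
      exact ⟨sub_eq_zero.1 this.1, sub_eq_zero.1 this.2⟩
    rw [map_add, d_ι_mul, h0, zero_smul, zero_sub] at hdw
    have hdw' : d φ α = 0 ∧ -d φ β = 0 := by
      cases q with
      | zero =>
        rw [W_zero] at hβ
        obtain ⟨c, rfl⟩ := Submodule.mem_span_singleton.1 hβ
        rw [map_smul, d_one, smul_zero, mul_zero, neg_zero, add_zero] at hdw
        exact ⟨hdw, by rw [map_smul, d_one, smul_zero, neg_zero]⟩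
      | succ q =>
        exact W_coord_eq_zero b hk (d_mem_W b φ k _ α hα) (neg_mem (d_mem_W b φ k _ β hβ))
          (by rw [mul_neg]; exact hdw)
    obtain ⟨γ', hγ', hγd⟩ := h (q + 1) α hα hdw'.1 ⟨γ, hγ, key.1⟩
    obtain ⟨δ', hδ', hδd⟩ := h q β hβ (neg_eq_zero.1 hdw'.2) ⟨-δ, neg_mem hδ, by rw [map_neg]; exact key.2⟩
    refine ⟨γ' + ExteriorAlgebra.ι R (vec b k) * (-δ'), (mem_W_succ b).2 ⟨γ', hγ', -δ', neg_mem hδ', rfl⟩, ?_⟩
    rw [map_add, d_ι_mul, h0, zero_smul, zero_sub, hγd, map_neg, hδd, mul_neg, neg_neg]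

/-- The case of a regular sequence followed by zeros. -/
lemma reg_of_regular {a : R} (K : ℕ) (hK : K ≤ n)
    (hreg : ∀ k, k < K → ∀ c : R, c * φ (vec b k) ∈ idl b φ k → c ∈ idl b φ k)
    (hzero : ∀ k, K ≤ k → φ (vec b k) = 0)
    (ha : ∀ c : R, a * c ∈ idl b φ K → c ∈ idl b φ K) (q : ℕ) : Reg φ a q := by
  have hbase : ∀ q, RegW b φ a K q := by
    intro q w hw hdw ⟨η, hη, hd⟩
    cases q with
    | zero =>
      rw [W_zero] at hw
      obtain ⟨c, rfl⟩ := Submodule.mem_span_singleton.1 hw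
      obtain ⟨e, he, hde⟩ := d_W_one b φ K η hη
      rw [hde, smul_smul] at hd
      have h2 : e = a * c := by
        have := congrArg ExteriorAlgebra.algebraMapInv hd
        simpa using this
      exact exists_of_mem_idl b φ K (ha c (h2 ▸ he))
    | succ q => exact exact_W' b φ K hreg K hK le_rfl q w hw hdw
  have hall : ∀ m, K + m ≤ n → ∀ q, RegW b φ a (K + m) q := by
    intro m
    induction m with
    | zero => exact fun _ => hbase
    | succ m ih => exact fun hm => RegW.succ b φ (k := K + m) (by omega) (hzero _ (Nat.le_add_right K m)) (ih (by omega))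
  intro z hz hdz ⟨η, hη, hd⟩
  have h := hall (n - K) (by omega) q
  rw [show K + (n - K) = n by omega] at h
  obtain ⟨η', hη', hd'⟩ := h z (exteriorPower_le_W b q hz) hdz ⟨η, exteriorPower_le_W b (q + 1) hη, hd⟩
  exact ⟨η', W_le_exteriorPower b n (q + 1) hη', hd'⟩

/-- Koszul homology of a form with range generated by a regular sequence. -/
theorem reg_of_range {k : ℕ} (bM : Module.Basis (Fin k) R M) (φ : M →ₗ[R] R) (g : List R)
    (hg : IsWeaklyRegular R g) (hI : LinearMap.range φ = Ideal.ofList g) {a : R}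
    (ha : ∀ c, a * c ∈ Ideal.ofList g → c ∈ Ideal.ofList g) (q : ℕ) : Reg φ a q := by
  classical
  let gv : Fin g.length → R := fun i => g[(i : ℕ)]
  have hgr : ∀ i, gv i ∈ LinearMap.range φ := fun i => by
    rw [hI]; exact Ideal.subset_span (List.getElem_mem _)
  choose Gc hGc using hgr
  have hfr : ∀ j, φ (bM j) ∈ Submodule.span R (Set.range gv) := fun j => by
    have h : φ (bM j) ∈ Ideal.ofList g := hI ▸ LinearMap.mem_range_self φ _
    refine Submodule.span_mono ?_ h
    intro x hx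
    obtain ⟨i, hi, rfl⟩ := List.mem_iff_getElem.1 hx
    exact ⟨⟨i, hi⟩, rfl⟩
  choose Fc hFc using fun j => (Submodule.mem_span_range_iff_exists_fun R).1 (hfr j)
  let G : (Fin g.length → R) →ₗ[R] M := Fintype.linearCombination R Gc
  let F : M →ₗ[R] (Fin g.length → R) := bM.constr R Fc
  let γ : (Fin g.length → R) →ₗ[R] R := Fintype.linearCombination R gv
  have hG : φ.comp G = γ := LinearMap.ext fun v => by
    simp [G, γ, Fintype.linearCombination_apply, map_sum, hGc]
  have hF : γ.comp F = φ := bM.ext fun j => by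
    simp [F, γ, Fintype.linearCombination_apply]
    exact hFc j
  let J : M →ₗ[R] (Fin g.length → R) × M := F.prod LinearMap.id
  let P : (Fin g.length → R) × M →ₗ[R] M :=
    LinearMap.snd R _ _ + G.comp (LinearMap.fst R _ _ - F.comp (LinearMap.snd R _ _))
  let ψ : (Fin g.length → R) × M →ₗ[R] R := γ.comp (LinearMap.fst R _ _)
  refine Reg.of_retract (ψ := ψ) J P ?_ ?_ ?_ ?_
  · exact LinearMap.ext fun m => LinearMap.congr_fun hF m
  · refine LinearMap.ext fun v => ?_
    have h1 := LinearMap.congr_fun hG (v.1 - F v.2)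
    have h2 := LinearMap.congr_fun hF v.2
    simp only [LinearMap.comp_apply] at h1 h2
    show φ (v.2 + G (v.1 - F v.2)) = γ v.1
    rw [map_add, h1, map_sub, h2]
    abel
  · refine LinearMap.ext fun m => ?_
    simp [P, J]
  let B := ((Pi.basisFun R (Fin g.length)).prod bM).reindex finSumFinEquiv
  have hvec : ∀ i, ψ (vec B i) = if h : i < g.length then g[i] else 0 := by
    intro i
    by_cases hn : i < g.length + k
    · rw [vec, dif_pos hn]
      by_cases h : i < g.length
      · rw [dif_pos h]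
        have : (⟨i, hn⟩ : Fin (g.length + k)) = finSumFinEquiv (Sum.inl ⟨i, h⟩) := Fin.ext rfl
        rw [this, Module.Basis.reindex_apply, Equiv.symm_apply_apply]
        simp [ψ, γ, gv, Fintype.linearCombination_apply, Pi.single_apply]
      · rw [dif_neg h]
        have : (⟨i, hn⟩ : Fin (g.length + k)) = finSumFinEquiv (Sum.inr ⟨i - g.length, by omega⟩) :=
          Fin.ext (by simp; omega)
        rw [this, Module.Basis.reindex_apply, Equiv.symm_apply_apply]
        simp [ψ, γ]
    · rw [vec, dif_neg hn, map_zero, dif_neg (by omega)]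
  have hidl : ∀ K, K ≤ g.length → idl B ψ K = Ideal.ofList (g.take K) := by
    intro K hK
    refine congrArg Ideal.span (Set.ext fun x => ?_)
    simp only [Set.mem_image, Set.mem_ofPred_eq, List.mem_take_iff_getElem]
    constructor
    · rintro ⟨j, hj, rfl⟩
      exact ⟨j, by omega, by rw [hvec, dif_pos (by omega)]⟩
    · rintro ⟨j, hj, rfl⟩
      exact ⟨j, by omega, by rw [hvec, dif_pos (by omega)]⟩
  refine reg_of_regular B ψ g.length (Nat.le_add_right _ _) (fun i hi c hc => ?_)
    (fun i hi => by rw [hvec, dif_neg (by omega)]) (fun c hc => ?_) q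
  · rw [hidl i hi.le] at hc ⊢
    rw [hvec, dif_pos hi, mul_comm] at hc
    have h := (isWeaklyRegular_iff R _).1 hg i hi
    have h2 : (Submodule.Quotient.mk c : R ⧸ (Ideal.ofList (g.take i) • ⊤ : Submodule R R)) = 0 := by
      refine h.right_eq_zero_of_smul ?_
      rw [← Submodule.Quotient.mk_smul, Submodule.Quotient.mk_eq_zero]
      simpa using hc
    rw [Submodule.Quotient.mk_eq_zero] at h2
    simpa using h2
  · rw [hidl _ le_rfl, List.take_length] at hc ⊢
    exact ha c hc

end Groth.Agent.H1KoszSq
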