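import Groth.Agent.H1KoszSq.Twist
import Groth.Agent.DepthTwist.IdealPow
import Groth.Agent.H23.PicMul

/-!
# The homology of the Koszul complex of twisted divisors
-/

noncomputable section

set_option linter.style.haveILetI false
set_option backward.isDefEq.respectTransparency false
set_option backward.isDefEq.respectTransparency.types false

universe u

open CategoryTheory CategoryTheory.Limits AlgebraicGeometry TopologicalSpace Opposite

namespace Groth.Agent.H1KoszSq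

variable {X : Scheme.{u}} {n : ℕ} {IY : Fin n → X.IdealSheafData} {J : X.IdealSheafData}
  (C : KoszSh.Cx (Src IY) (cos IY)) (C' : KoszSh.Cx (Src (twI IY J)) (cos (twI IY J))) (q : ℕ)

/-- The fibre product. -/
abbrev sq : X.Modules :=
  pullback ((TK J).map (C.K.homologyπ q)) (ηK J (C.K.homology q))

/-- The map to the fibre product. -/
def chi : C.K.cycles q ⟶ sq (J := J) C q :=
  pullback.lift (ηK J (C.K.cycles q)) (C.K.homologyπ q)
    ((Scheme.Modules.pullbackPushforwardAdjunction J.subschemeι).unit.naturality (C.K.homologyπ q)).symm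

variable (hY : ∀ i, BlowUp.IsEffCartierIdeal (IY i))
include hY

lemma isQCoh_K : ∀ p, Coh.IsQCoh (C.K.X p) := fun p =>
  ExtLoc7.isQCoh_of_isExtPow (QCoh.isQCoh_of_isFinLocFree (isFinLocFree_src IY hY)) (C.isExtPow p)

variable {V : X.affineOpens} {ε : Γ(ClSub.idealMod J, V.1)}

lemma chi_eq_zero_iff (hε : InvX.IsFrame ε)
    (hreg : IsSMulRegular Γ(C.K.homology q, V.1) (OmegaSh.idealSect J V.1 ε)) (z : Γ(C.K.cycles q, V.1)) :
    (chi (J := J) C q).app V.1 z = 0 ↔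
      ∃ b, OmegaSh.idealSect J V.1 ε • (C.K.toCycles (q + 1) q).app V.1 b = z := by
  have hK := isQCoh_K C hY
  have e1 : (pullback.fst ((TK J).map (C.K.homologyπ q)) (ηK J (C.K.homology q))).app V.1 ((chi (J := J) C q).app V.1 z) = (ηK J (C.K.cycles q)).app V.1 z :=
    congr(($(pullback.lift_fst (ηK J (C.K.cycles q)) (C.K.homologyπ q)
      ((Scheme.Modules.pullbackPushforwardAdjunction J.subschemeι).unit.naturality (C.K.homologyπ q)).symm)).app V.1 z)
  have e2 : (pullback.snd ((TK J).map (C.K.homologyπ q)) (ηK J (C.K.homology q))).app V.1 ((chi (J := J) C q).app V.1 z) = (C.K.homologyπ q).app V.1 z :=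
    congr(($(pullback.lift_snd (ηK J (C.K.cycles q)) (C.K.homologyπ q)
      ((Scheme.Modules.pullbackPushforwardAdjunction J.subschemeι).unit.naturality (C.K.homologyπ q)).symm)).app V.1 z)
  have hB : ∀ b, (C.K.homologyπ q).app V.1 ((C.K.toCycles (q + 1) q).app V.1 b) = 0 := fun b =>
    congr(($(C.K.toCycles_comp_homologyπ (q + 1) q)).app V.1 b)
  constructor
  · intro h
    rw [h, map_zero] at e1 e2
    obtain ⟨z₁, rfl⟩ := mem_span_smul_top.1
      (ideal_eq_span hε ▸ ((ηK_app J (isQCoh_cycles _ hK q) V).2 z).1 e1.symm)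
    have h1 : (C.K.homologyπ q).app V.1 z₁ = 0 := hreg (by
      simp only [smul_zero]
      exact (Scheme.Modules.Hom.app_smul _ _ _).symm.trans e2.symm)
    obtain ⟨b, hb⟩ := exists_toCycles _ hK q V.2 z₁ h1
    exact ⟨b, by rw [hb]⟩
  · rintro ⟨b, rfl⟩
    refine pullback_ext _ _ _ _ ?_ ?_
    · rw [e1, (ηK_app J (isQCoh_cycles _ hK q) V).2]
      rw [ideal_eq_span hε]
      exact mem_span_smul_top.2 ⟨_, rfl⟩
    · rw [e2, Scheme.Modules.Hom.app_smul, hB, smul_zero]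

lemma chi_surjective (hε : InvX.IsFrame ε) : Function.Surjective ((chi (J := J) C q).app V.1) := by
  intro w
  have hK := isQCoh_K C hY
  have hZ := isQCoh_cycles _ hK q
  have hH := isQCoh_homology _ hK q
  let ζ := (pullback.fst ((TK J).map (C.K.homologyπ q)) (ηK J (C.K.homology q))).app V.1 w
  let h := (pullback.snd ((TK J).map (C.K.homologyπ q)) (ηK J (C.K.homology q))).app V.1 w
  have hw : ((TK J).map (C.K.homologyπ q)).app V.1 ζ = (ηK J (C.K.homology q)).app V.1 h :=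
    congr(($(pullback.condition (f := (TK J).map (C.K.homologyπ q)) (g := ηK J (C.K.homology q)))).app V.1 w)
  obtain ⟨z₀, hz₀⟩ := (ηK_app J hZ V).1 ζ
  have hnat : ((TK J).map (C.K.homologyπ q)).app V.1 ((ηK J (C.K.cycles q)).app V.1 z₀) =
      (ηK J (C.K.homology q)).app V.1 ((C.K.homologyπ q).app V.1 z₀) :=
    congr(($(((Scheme.Modules.pullbackPushforwardAdjunction J.subschemeι).unit.naturality
      (C.K.homologyπ q)).symm)).app V.1 z₀)
  rw [hz₀, hw] at hnat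
  obtain ⟨h₁, hh₁⟩ := mem_span_smul_top.1 (ideal_eq_span hε ▸
    ((ηK_app J hH V).2 ((C.K.homologyπ q).app V.1 z₀ - h)).1 (by rw [map_sub, ← hnat, sub_self]))
  obtain ⟨z₁, rfl⟩ := surjective_homologyπ _ hK q V.2 h₁
  refine ⟨z₀ - OmegaSh.idealSect J V.1 ε • z₁, sub_eq_zero.1 (pullback_ext _ _ _ _ ?_ ?_)⟩
  · have e1 := congr(($(pullback.lift_fst (ηK J (C.K.cycles q)) (C.K.homologyπ q)
      ((Scheme.Modules.pullbackPushforwardAdjunction J.subschemeι).unit.naturality (C.K.homologyπ q)).symm)).app V.1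
      (z₀ - OmegaSh.idealSect J V.1 ε • z₁))
    rw [map_sub]
    refine sub_eq_zero.2 (e1.trans ?_)
    rw [map_sub, hz₀, ((ηK_app J hZ V).2 _).2 (ideal_eq_span hε ▸ mem_span_smul_top.2 ⟨_, rfl⟩), sub_zero]
  · have e2 := congr(($(pullback.lift_snd (ηK J (C.K.cycles q)) (C.K.homologyπ q)
      ((Scheme.Modules.pullbackPushforwardAdjunction J.subschemeι).unit.naturality (C.K.homologyπ q)).symm)).app V.1
      (z₀ - OmegaSh.idealSect J V.1 ε • z₁))
    rw [map_sub]
    refine sub_eq_zero.2 (e2.trans ?_)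
    rw [map_sub, Scheme.Modules.Hom.app_smul, hh₁]
    exact sub_sub_cancel _ _

variable (hJ : BlowUp.IsEffCartierIdeal J)
  (hreg : ∀ (V : X.affineOpens) (ε : Γ(ClSub.idealMod J, V.1)), InvX.IsFrame ε →
    IsSMulRegular Γ(C.K.homology q, V.1) (OmegaSh.idealSect J V.1 ε))
include hJ hreg

/-- The homology of the twisted Koszul complex is the twisted fibre product. -/
theorem nonempty_iso :
    Nonempty (C'.K.homology q ≅
      CohB1.tensorMod (sq (J := J) C q) (CohB1.tensorPow (ClSub.idealMod J) q)) := by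
  obtain ⟨θ, hθ, -⟩ := S15900.result (Src (twI IY J)) (Src IY)
    (KFlatLib.isFinLocFree_sigma _ Finset.univ (fun i h => absurd (Finset.mem_univ i) h) fun i =>
      H23.PullPush.isFinLocFree_of_isInvertible
        ((DepthTwist.nonempty_idealMod_mul_iso (IY i) J ((S8914.result (IY i)).2 (hY i))).elim fun e =>
          H23.PicMul.isInvertible_of_iso e (InvX.isInvertible_tensorMod ((S8914.result (IY i)).2 (hY i))
            ((S8914.result J).2 hJ))))
    (isFinLocFree_src IY hY) (cos (twI IY J)) (cos IY) (inclS IY J) (inclS_cos IY J) C' C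
  have hcov := covers_chart IY J hY hJ
  have hK := isQCoh_K C hY
  have hK' : ∀ p, Coh.IsQCoh (C'.K.X p) := fun p =>
    ExtLoc7.isQCoh_of_isExtPow (QCoh.isQCoh_of_isFinLocFree
      (KFlatLib.isFinLocFree_sigma _ Finset.univ (fun i h => absurd (Finset.mem_univ i) h) fun i =>
        H23.PullPush.isFinLocFree_of_isInvertible
          ((DepthTwist.nonempty_idealMod_mul_iso (IY i) J ((S8914.result (IY i)).2 (hY i))).elim fun e =>
            H23.PicMul.isInvertible_of_iso e (InvX.isInvertible_tensorMod ((S8914.result (IY i)).2 (hY i))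
              ((S8914.result J).2 hJ))))) (C'.isExtPow p)
  have key : ∀ V, IsChart IY J V → ∀ p, ∃ (ε : Γ(ClSub.idealMod J, V.1)) (_ : InvX.IsFrame ε)
      (Ψ : Γ(C'.K.X p, V.1) ≃ₗ[Γ(X, V.1)] Γ(C.K.X p, V.1)),
      (∀ w, (θ.f p).app V.1 w = OmegaSh.idealSect J V.1 ε ^ p • Ψ w) ∧
      ∀ w : Γ(C.K.X p, V.1), ∀ m, OmegaSh.idealSect J V.1 ε ^ m • w = 0 → w = 0 := by
    rintro V ⟨⟨ε, hε⟩, k, ⟨b⟩⟩ p
    obtain ⟨Ψ, hΨ⟩ := exists_theta_equiv C C' θ hθ hε b p
    exact ⟨ε, hε, Ψ, hΨ, fun w m h => smul_pow_eq_zero C b (fun r hr => eq_zero_of_mul hε hr) p m h⟩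
  let ι' := C'.K.iCycles q ≫ θ.f q
  have hθinj : ∀ V, IsChart IY J V → ∀ p (w : Γ(C'.K.X p, V.1)), (θ.f p).app V.1 w = 0 → w = 0 := by
    intro V hV p w hw
    obtain ⟨ε, hε, Ψ, hΨ, ht⟩ := key V hV p
    exact Ψ.map_eq_zero_iff.1 (ht _ p ((hΨ w).symm.trans hw))
  haveI : Mono ι' := mono_of hcov ι' fun V hV z hz =>
    iCycles_injective C'.K q ((hθinj V hV q _ hz).trans (map_zero _).symm)
  let tZ := AmpleVan.tw (CohB1.tensorPow (ClSub.idealMod J) q)
  let ρ₀ : tZ.obj (C.K.cycles q) ⟶ C.K.X q := mu J (C.K.cycles q) q ≫ C.K.iCycles q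
  -- elements of the source on charts
  have hsrc : ∀ {V : X.affineOpens} {ε : Γ(ClSub.idealMod J, V.1)} (z : Γ(C.K.cycles q, V.1)),
      ρ₀.app V.1 (InvX.tmul z (pw J ε q)) = OmegaSh.idealSect J V.1 ε ^ q • (C.K.iCycles q).app V.1 z := by
    intro V ε z
    show (C.K.iCycles q).app V.1 ((mu J (C.K.cycles q) q).app V.1 (InvX.tmul z (pw J ε q))) = _
    rw [mu_app]
    exact Scheme.Modules.Hom.app_smul _ _ _
  -- the image of `ι'` on charts
  have himg : ∀ V, IsChart IY J V → ∀ {ε : Γ(ClSub.idealMod J, V.1)}, InvX.IsFrame ε →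
      (∀ z' : Γ(C'.K.cycles q, V.1), ∃ z, ι'.app V.1 z' = ρ₀.app V.1 (InvX.tmul z (pw J ε q))) ∧
      (∀ z : Γ(C.K.cycles q, V.1), ∃ z', ι'.app V.1 z' = ρ₀.app V.1 (InvX.tmul z (pw J ε q))) := by
    intro V hV ε hε
    obtain ⟨-, k, ⟨b⟩⟩ := hV
    obtain ⟨Ψ, hΨ⟩ := exists_theta_equiv C C' θ hθ hε b q
    have ha := fun r hr => eq_zero_of_mul hε (r := r) hr
    have hd : ∀ (w : Γ(C'.K.X q, V.1)),
        (C.K.d q ((ComplexShape.down ℕ).next q)).app V.1 ((θ.f q).app V.1 w) =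
          (θ.f _).app V.1 ((C'.K.d q ((ComplexShape.down ℕ).next q)).app V.1 w) := fun w =>
      congr(($(θ.comm q ((ComplexShape.down ℕ).next q))).app V.1 w)
    refine ⟨fun z' => ?_, fun z => ?_⟩
    · let m := Ψ ((C'.K.iCycles q).app V.1 z')
      have h0 := hd ((C'.K.iCycles q).app V.1 z')
      rw [d_iCycles_app, map_zero, hΨ, Scheme.Modules.Hom.app_smul] at h0
      obtain ⟨z, hz⟩ := exists_cycle C.K q m (smul_pow_eq_zero C b ha _ q h0)
      refine ⟨z, ?_⟩
      rw [hsrc, hz]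
      exact hΨ _
    · obtain ⟨w, hw⟩ := Ψ.surjective ((C.K.iCycles q).app V.1 z)
      have h0 := hd w
      rw [hΨ, hw, Scheme.Modules.Hom.app_smul, d_iCycles_app, smul_zero] at h0
      obtain ⟨z', hz'⟩ := exists_cycle C'.K q w (hθinj V ⟨⟨ε, hε⟩, k, ⟨b⟩⟩ _ _ h0.symm)
      refine ⟨z', ?_⟩
      rw [hsrc, ← hw, ← hΨ]
      exact congrArg _ hz'
  have hcok : ρ₀ ≫ cokernel.π ι' = 0 := hom_eq_zero hcov _ fun V hV w => by
    obtain ⟨ε, hε⟩ := hV.1
    obtain ⟨z, rfl⟩ := exists_eq_tmul J hε q w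
    obtain ⟨z', hz'⟩ := (himg V hV hε).2 z
    show (cokernel.π ι').app V.1 (ρ₀.app V.1 _) = 0
    rw [← hz']
    exact congr(($(cokernel.condition ι')).app V.1 z')
  let ΨZ : tZ.obj (C.K.cycles q) ⟶ C'.K.cycles q := Abelian.monoLift ι' ρ₀ hcok
  have hΨZ : ∀ (V : X.Opens) w, ι'.app V (ΨZ.app V w) = ρ₀.app V w := fun V w =>
    congr(($(Abelian.monoLift_comp ι' ρ₀ hcok)).app V w)
  let ρ := ΨZ ≫ C'.K.homologyπ q
  let τ := tZ.map (chi (J := J) C q)
  haveI : Epi ΨZ := epi_of hcov _ fun V hV z' => by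
    obtain ⟨ε, hε⟩ := hV.1
    obtain ⟨z, hz⟩ := (himg V hV hε).1 z'
    exact ⟨InvX.tmul z (pw J ε q), QCoh.app_injective ι' V.1 ((hΨZ _ _).trans hz.symm)⟩
  haveI : Epi ρ := epi_comp _ _
  have hτ : ∀ {V : X.affineOpens} {ε : Γ(ClSub.idealMod J, V.1)} (z : Γ(C.K.cycles q, V.1)),
      τ.app V.1 (InvX.tmul z (pw J ε q)) = InvX.tmul ((chi (J := J) C q).app V.1 z) (pw J ε q) := fun z =>
    AmpleVan.map_tmul_left _ _ _
  haveI : Epi τ := epi_of hcov _ fun V hV w => by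
    obtain ⟨ε, hε⟩ := hV.1
    obtain ⟨p, rfl⟩ := exists_eq_tmul J hε q w
    obtain ⟨z, rfl⟩ := chi_surjective C q hY hε p
    exact ⟨_, hτ z⟩
  -- the two kernels agree
  have hker : ∀ V, IsChart IY J V → ∀ w, ρ.app V.1 w = 0 ↔ τ.app V.1 w = 0 := by
    intro V hV w
    obtain ⟨⟨ε, hε⟩, k, ⟨b⟩⟩ := hV
    obtain ⟨z, rfl⟩ := exists_eq_tmul J hε q w
    obtain ⟨Ψ, hΨ⟩ := exists_theta_equiv C C' θ hθ hε b (q + 1)
    let a := OmegaSh.idealSect J V.1 ε
    have hd : ∀ (c : Γ(C'.K.X (q + 1), V.1)),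
        ι'.app V.1 ((C'.K.toCycles (q + 1) q).app V.1 c) =
          a ^ q • (a • (C.K.d (q + 1) q).app V.1 (Ψ c)) := fun c => by
      show (θ.f q).app V.1 ((C'.K.iCycles q).app V.1 _) = _
      rw [toCycles_i_app, smul_smul, ← pow_succ, ← Scheme.Modules.Hom.app_smul, ← hΨ]
      exact congr(($(θ.comm (q + 1) q)).app V.1 c).symm
    rw [hτ]
    constructor
    · intro h
      obtain ⟨c, hc⟩ := exists_toCycles _ hK' q V.2 _ h
      have h1 := (congrArg (ι'.app V.1) hc).trans (hΨZ _ _)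
      rw [hd, hsrc] at h1
      have h2 : a • (C.K.d (q + 1) q).app V.1 (Ψ c) = (C.K.iCycles q).app V.1 z :=
        sub_eq_zero.1 (smul_pow_eq_zero C b (fun r hr => eq_zero_of_mul hε hr) q q
          (by rw [smul_sub, h1, sub_self]))
      rw [(chi_eq_zero_iff C q hY hε (hreg V ε hε) z).2 ⟨Ψ c, iCycles_injective C.K q (by
        rw [Scheme.Modules.Hom.app_smul, toCycles_i_app, h2])⟩, AmpleVan.tmul_zero_left]
    · intro h
      obtain ⟨b₀, rfl⟩ := (chi_eq_zero_iff C q hY hε (hreg V ε hε) z).1 (eq_zero_of_tmul J hε q h)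
      obtain ⟨c, rfl⟩ := Ψ.surjective b₀
      have h1 : ΨZ.app V.1 (InvX.tmul (OmegaSh.idealSect J V.1 ε • (C.K.toCycles (q + 1) q).app V.1 (Ψ c)) (pw J ε q)) =
          (C'.K.toCycles (q + 1) q).app V.1 c := QCoh.app_injective ι' V.1 (by
        rw [hΨZ, hd, hsrc, Scheme.Modules.Hom.app_smul, toCycles_i_app])
      show (C'.K.homologyπ q).app V.1 (ΨZ.app V.1 _) = 0
      rw [h1]
      exact congr(($(C'.K.toCycles_comp_homologyπ (q + 1) q)).app V.1 c)
  have h₁ : kernel.ι ρ ≫ τ = 0 := hom_eq_zero hcov _ fun V hV w =>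
    (hker V hV _).1 (congr(($(kernel.condition ρ)).app V.1 w))
  have h₂ : kernel.ι τ ≫ ρ = 0 := hom_eq_zero hcov _ fun V hV w =>
    (hker V hV _).2 (congr(($(kernel.condition τ)).app V.1 w))
  exact ⟨{ hom := Abelian.epiDesc ρ τ h₁
           inv := Abelian.epiDesc τ ρ h₂
           hom_inv_id := (cancel_epi ρ).1 (((Abelian.comp_epiDesc_assoc ρ τ h₁ _).trans (Abelian.comp_epiDesc τ ρ h₂)).trans (Category.comp_id _).symm)
           inv_hom_id := (cancel_epi τ).1 (((Abelian.comp_epiDesc_assoc τ ρ h₂ _).trans (Abelian.comp_epiDesc ρ τ h₁)).trans (Category.comp_id _).symm) }⟩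

end Groth.Agent.H1KoszSq
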