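import Groth.Agent.H1KoszSq.Main
import Groth.Agent.H1KoszSq.Alg
import Groth.Agent.S15899
import Groth.Agent.GrpSchLib.SmoothRegular
import Groth.Agent.CotTLib.CI
import Groth.Agent.LC.ExtDim
import Groth.Agent.LC.LiaisonRows
import Groth.Agent.GrLib8.Avoid
import Groth.Agent.RegNear.Basic

/-!
# Regularity on Koszul homology along a regularly embedded intersection
-/

noncomputable section

set_option linter.style.haveILetI false
set_option backward.isDefEq.respectTransparency false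
set_option backward.isDefEq.respectTransparency.types false

universe u

open CategoryTheory CategoryTheory.Limits AlgebraicGeometry TopologicalSpace Opposite

namespace Groth.Agent.H1KoszSq

variable {X : Scheme.{u}}

/-- Support through primes. -/
lemma fromSpec_mem_support_iff (K : X.IdealSheafData) (W : X.affineOpens) (P : PrimeSpectrum Γ(X, W.1)) :
    W.2.fromSpec P ∈ K.support ↔ K.ideal W ≤ P.asIdeal := by
  have hy : W.2.fromSpec P ∈ W.1 := W.2.range_fromSpec.le ⟨P, rfl⟩
  have h1 : W.2.fromSpec P ∈ K.support ↔ W.2.fromSpec P ∈ X.zeroLocus (U := W.1) (K.ideal W) :=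
    ⟨fun h => ((K.coe_support_inter W).le ⟨h, hy⟩).1, fun h => ((K.coe_support_inter W).ge ⟨h, hy⟩).1⟩
  rw [h1, Scheme.mem_zeroLocus_iff]
  refine forall₂_congr fun f _ => ?_
  letI : Algebra Γ(X, W.1) (X.presheaf.stalk (W.2.fromSpec P)) :=
    (X.presheaf.germ W.1 _ hy).hom.toAlgebra
  haveI : IsLocalization.AtPrime (X.presheaf.stalk (W.2.fromSpec P)) P.asIdeal :=
    W.2.isLocalization_stalk' P hy
  rw [Scheme.mem_basicOpen X f _ hy]
  exact (not_congr (IsLocalization.AtPrime.isUnit_to_map_iff (X.presheaf.stalk (W.2.fromSpec P)) P.asIdeal f)).trans not_not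

lemma ideal_eq_top_of_disjoint (K : X.IdealSheafData) (W : X.affineOpens)
    (h : ∀ y ∈ W.1, y ∉ K.support) : K.ideal W = ⊤ := by
  by_contra hne
  obtain ⟨m, hm, hle⟩ := Ideal.exists_le_maximal _ hne
  exact h _ (W.2.range_fromSpec.le ⟨⟨m, hm.isPrime⟩, rfl⟩) ((fromSpec_mem_support_iff K W ⟨m, hm.isPrime⟩).2 hle)

variable {n : ℕ} {IY : Fin n → X.IdealSheafData}

/-- The image of the cosection. -/
lemma range_secForm (W : X.affineOpens) :
    LinearMap.range (KoszSh.secForm (cos IY) W.1) = (⨆ i, IY i).ideal W := by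
  have hval : ∀ i (k : Γ(ClSub.idealMod (IY i), W.1)),
      KoszSh.secForm (cos IY) W.1 ((Sigma.ι (fun i => ClSub.idealMod (IY i)) i).app W.1 k) =
        OmegaSh.idealSect (IY i) W.1 k := fun i k => by
    rw [← IdealSub.idealModι_app']
    exact congrArg (OmegaSh.fnSect X W.1) congr(($(colimit.ι_desc (Cofan.mk _ fun i => ClSub.idealModι (IY i))
      ⟨i⟩)).app W.1 k)
  rw [Scheme.IdealSheafData.ideal_iSup, iSup_apply]
  refine le_antisymm ?_ (iSup_le fun i => ?_)
  · rintro _ ⟨e, rfl⟩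
    rw [← sum_app IY W.1 e, map_sum]
    refine sum_mem fun i _ => Ideal.mem_iSup_of_mem i ?_
    rw [hval]
    exact OmegaLib.idealSect_mem (IY i) W _
  · intro c hc
    obtain ⟨k, rfl⟩ := OmegaLib.exists_of_mem (IY i) W c hc
    exact ⟨_, hval i k⟩

/-- An element avoiding the minimal points is regular modulo a regular sequence, in a smooth variety. -/
lemma mul_mem_imp [IsLocallyNoetherian X] (hreg : ∀ x : X, IsRegularLocalRing (X.presheaf.stalk x))
    (K J : X.IdealSheafData)
    (hKJ : ∀ z : ↥K.subscheme, ringKrullDim (K.subscheme.presheaf.stalk z) = 0 →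
      K.subschemeι.base z ∉ Set.range J.subschemeι.base)
    (W : X.affineOpens) (g : List Γ(X, W.1)) (hg : RingTheory.Sequence.IsWeaklyRegular Γ(X, W.1) g)
    (hgK : Ideal.ofList g = K.ideal W) {a : Γ(X, W.1)} (haJ : J.ideal W = Ideal.span {a}) (c : Γ(X, W.1))
    (hc : a * c ∈ Ideal.ofList g) : c ∈ Ideal.ofList g := by
  haveI : IsNoetherianRing Γ(X, W.1) := IsLocallyNoetherian.component_noetherian W
  by_contra hcn
  have hns : ¬ IsSMulRegular (Γ(X, W.1) ⧸ Ideal.ofList g) a := fun h => hcn (by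
    refine Ideal.Quotient.eq_zero_iff_mem.1 (h ?_)
    show a • Ideal.Quotient.mk (Ideal.ofList g) c = a • 0
    rw [smul_zero]
    exact Ideal.Quotient.eq_zero_iff_mem.2 hc)
  obtain ⟨P, hP, haP⟩ : ∃ P ∈ associatedPrimes Γ(X, W.1) (Γ(X, W.1) ⧸ Ideal.ofList g), a ∈ P := by
    by_contra h
    push Not at h
    exact hns (GrLib8.isSMulRegular_of_forall_notMem h)
  have hPp := hP.isPrime
  obtain ⟨-, x, hx⟩ := Groth.Agent.Alg6.mem_ass_iff.1 hP
  obtain ⟨e, rfl⟩ := Ideal.Quotient.mk_surjective x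
  have he : ∀ r, r ∈ P ↔ r * e ∈ Ideal.ofList g := fun r => by
    rw [hx r, ← Ideal.Quotient.eq_zero_iff_mem]
    rfl
  have hIP : Ideal.ofList g ≤ P := fun r hr => (he r).2 (Ideal.mul_mem_right _ _ hr)
  let pP : PrimeSpectrum Γ(X, W.1) := ⟨P, hPp⟩
  let y := W.2.fromSpec pP
  have hy : y ∈ W.1 := W.2.range_fromSpec.le ⟨pP, rfl⟩
  obtain ⟨z, hz⟩ : y ∈ Set.range K.subschemeι.base := by
    rw [Scheme.IdealSheafData.range_subschemeι]
    exact (fromSpec_mem_support_iff K W pP).2 (hgK ▸ hIP)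
  have hyJ : y ∈ Set.range J.subschemeι.base := by
    rw [Scheme.IdealSheafData.range_subschemeι]
    exact (fromSpec_mem_support_iff J W pP).2 (haJ ▸ (Ideal.span_singleton_le_iff_mem _).2 haP)
  refine hKJ z ?_ (hz ▸ hyJ)
  have hzW : K.subschemeι z ∈ W.1 := by rw [show K.subschemeι z = y from hz]; exact hy
  let O := X.presheaf.stalk (K.subschemeι z)
  letI : Algebra Γ(X, W.1) O := (X.presheaf.germ W.1 _ hzW).hom.toAlgebra
  haveI : IsLocalization.AtPrime O P := by
    have h := W.2.isLocalization_stalk ⟨K.subschemeι z, hzW⟩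
    have he' : W.2.primeIdealOf ⟨K.subschemeι z, hzW⟩ = pP := W.2.fromSpec.isOpenEmbedding.injective
      ((W.2.fromSpec_primeIdealOf _).trans hz)
    rw [he'] at h
    exact h
  haveI : Module.Flat Γ(X, W.1) O := IsLocalization.flat _ P.primeCompl
  haveI : IsRegularLocalRing O := hreg _
  let g' := g.map (algebraMap Γ(X, W.1) O)
  have hJ : Ideal.ofList g' = (Ideal.ofList g).map (algebraMap Γ(X, W.1) O) := (Ideal.map_ofList _ g).symm
  have hmem : ∀ r ∈ g', r ∈ IsLocalRing.maximalIdeal O := by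
    intro r hr
    obtain ⟨r₀, hr₀, rfl⟩ := List.mem_map.1 hr
    exact (IsLocalization.AtPrime.to_map_mem_maximal_iff O P r₀).2 (hIP (Ideal.subset_span hr₀))
  have hCM := LC.isCM_quot_ofList O (CotTLib.isCM_of_isRegularLocalRing O) (rs := g') (hg.of_flat (S := O)) hmem
  let eq' := Submodule.quotEquivOfEq (Ideal.ofList g' • (⊤ : Submodule O O)) (Ideal.ofList g')
    (by rw [smul_eq_mul, Ideal.mul_top])
  have hass : IsLocalRing.maximalIdeal O ∈ associatedPrimes O (O ⧸ (Ideal.ofList g' • ⊤ : Submodule O O)) := by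
    refine Groth.Agent.Alg6.mem_ass_iff.2 ⟨inferInstance, eq'.symm (Ideal.Quotient.mk _ (algebraMap _ O e)),
      fun r => ?_⟩
    rw [← map_smul, LinearEquiv.map_eq_zero_iff]
    show _ ↔ Ideal.Quotient.mk _ (r * algebraMap _ O e) = 0
    rw [Ideal.Quotient.eq_zero_iff_mem]
    constructor
    · intro hr
      obtain ⟨⟨r₀, s⟩, hrs⟩ := IsLocalization.surj P.primeCompl r
      refine (Ideal.unit_mul_mem_iff_mem _ (IsLocalization.map_units O s)).1 ?_
      rw [← mul_assoc, mul_comm (algebraMap _ O (s : Γ(X, W.1))) r, hrs, ← map_mul, hJ]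
      refine Ideal.mem_map_of_mem _ ((he r₀).1 ((IsLocalization.AtPrime.to_map_mem_maximal_iff O P r₀).1 ?_))
      show algebraMap _ O r₀ ∈ _
      rw [show algebraMap _ O r₀ = r * algebraMap _ O (s : Γ(X, W.1)) from hrs.symm]
      exact Ideal.mul_mem_right _ _ hr
    · intro hr
      by_contra hu
      rw [IsLocalRing.mem_maximalIdeal, mem_nonunits_iff, not_not] at hu
      rw [Ideal.unit_mul_mem_iff_mem _ hu, hJ,
        IsLocalization.algebraMap_mem_map_algebraMap_iff P.primeCompl O] at hr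
      obtain ⟨s, hs, hse⟩ := hr
      exact hs ((he s).2 hse)
  have h0 := LC.coheight_eq_of_ass_of_isCM _ hCM (p := IsLocalRing.closedPoint O) hass
  rw [show Order.coheight (IsLocalRing.closedPoint O) = 0 from
    Order.coheight_eq_zero.2 (isMax_iff_forall_not_lt.2 fun q hq =>
      hq.not_ge (IsLocalRing.le_maximalIdeal q.isPrime.ne_top)),
    Module.supportDim_eq_of_equiv eq', Module.supportDim_quotient_eq_ringKrullDim] at h0
  have hker : RingHom.ker (K.subschemeι.stalkMap z).hom = Ideal.ofList g' := by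
    rw [hJ, RegNear.ker_stalkMap K.subschemeι z W.2 hzW, K.ker_subschemeι_app, hgK]
    rfl
  rw [← ringKrullDim_eq_of_ringEquiv (RingHom.quotientKerEquivOfSurjective
    (f := (K.subschemeι.stalkMap z).hom) (K.subschemeι.stalkMap_surjective z)), hker, ← h0]
  rfl

/-- Charts with a regular generating sequence. -/
lemma exists_reg_chart (K J : X.IdealSheafData) (hY : ∀ i, BlowUp.IsEffCartierIdeal (IY i))
    (hJ : BlowUp.IsEffCartierIdeal J)
    (hZ : RegImm.IsRegularImmersion RegImm.Kind.regular K.subschemeι) {V : X.Opens} {x : X} (hx : x ∈ V) :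
    ∃ W : X.affineOpens, IsChart IY J W ∧ x ∈ W.1 ∧ W.1 ≤ V ∧ ∃ g : List Γ(X, W.1),
      RingTheory.Sequence.IsWeaklyRegular Γ(X, W.1) g ∧ Ideal.ofList g = K.ideal W := by
  by_cases hxK : x ∈ Set.range K.subschemeι.base
  · obtain ⟨z, rfl⟩ := hxK
    obtain ⟨U, hzU, -, rs, hrs, hker⟩ := hZ.2 z
    obtain ⟨W, hW, hxW, hle⟩ := covers_chart IY J hY hJ (V ⊓ U.1) _ ⟨hx, hzU⟩
    refine ⟨W, hW, hxW, hle.trans inf_le_left,
      (show List Γ(X, U.1) from rs).map (X.presheaf.map (homOfLE (hle.trans inf_le_right)).op).hom, ?_, ?_⟩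
    · let res := (X.presheaf.map (homOfLE (hle.trans inf_le_right)).op).hom
      letI : Algebra Γ(X, U.1) Γ(X, W.1) := res.toAlgebra
      haveI : Module.Flat Γ(X, U.1) Γ(X, W.1) := by
        have h := (𝟙 X : X ⟶ X).flat_appLE U.2 W.2 (show W.1 ≤ (𝟙 X : X ⟶ X) ⁻¹ᵁ U.1 from hle.trans inf_le_right)
        rw [Scheme.Hom.appLE, Scheme.Hom.id_app, Category.id_comp] at h
        exact h
      exact (show RingTheory.Sequence.IsRegular Γ(X, U.1) rs from hrs).toIsWeaklyRegular.of_flat (S := Γ(X, W.1))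
    · rw [← Ideal.map_ofList, ← hker, K.ker_subschemeι_app]
      exact K.map_ideal (U := W) (V := U) (hle.trans inf_le_right)
  · rw [Scheme.IdealSheafData.range_subschemeι] at hxK
    obtain ⟨W, hW, hxW, hle⟩ := covers_chart IY J hY hJ
      (V ⊓ ⟨(K.support : Set X)ᶜ, K.support.isClosed.isOpen_compl⟩) x ⟨hx, hxK⟩
    refine ⟨W, hW, hxW, hle.trans inf_le_left, [1], ?_, ?_⟩
    · rw [RingTheory.Sequence.isWeaklyRegular_cons_iff]
      exact ⟨fun a b h => by simpa using h, RingTheory.Sequence.IsWeaklyRegular.nil _ _⟩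
    · rw [ideal_eq_top_of_disjoint K W fun y hy => (hle hy).2, Ideal.ofList_singleton, Ideal.span_singleton_one]

/-- The frame value is regular on Koszul homology. -/
theorem isSMulRegular_homology [IsLocallyNoetherian X]
    (hreg : ∀ x : X, IsRegularLocalRing (X.presheaf.stalk x))
    (J : X.IdealSheafData) (hY : ∀ i, BlowUp.IsEffCartierIdeal (IY i)) (hJ : BlowUp.IsEffCartierIdeal J)
    (hZ : RegImm.IsRegularImmersion RegImm.Kind.regular (⨆ i, IY i).subschemeι)
    (hZD : ∀ z : ↥(⨆ i, IY i).subscheme, ringKrullDim ((⨆ i, IY i).subscheme.presheaf.stalk z) = 0 →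
      (⨆ i, IY i).subschemeι.base z ∉ Set.range J.subschemeι.base)
    (C : KoszSh.Cx (Src IY) (cos IY)) (q : ℕ) (V : X.affineOpens) (ε : Γ(ClSub.idealMod J, V.1))
    (hε : InvX.IsFrame ε) : IsSMulRegular Γ(C.K.homology q, V.1) (OmegaSh.idealSect J V.1 ε) := by
  refine isSMulRegular_iff_right_eq_zero_of_smul.2 fun h hh => ?_
  refine QCoh.eq_zero_of_locally V.1 h fun x hx => ?_
  obtain ⟨W, hW, hxW, hWV, g, hg, hgK⟩ := exists_reg_chart (IY := IY) (⨆ i, IY i) J hY hJ hZ hx
  refine ⟨W.1, homOfLE hWV, hxW, ?_⟩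
  obtain ⟨-, k, ⟨b⟩⟩ := hW
  have hK := isQCoh_K C hY
  let ε' := AModX.res (ClSub.idealMod J) hWV ε
  let a := OmegaSh.idealSect J W.1 ε'
  let hW' : Γ(C.K.homology q, W.1) := (C.K.homology q).presheaf.map (homOfLE hWV).op h
  have h' : a • hW' = 0 := by
    have ha : a = X.presheaf.map (homOfLE hWV).op (OmegaSh.idealSect J V.1 ε) := OmegaLib.idealSect_map J hWV ε
    rw [ha]
    exact ((QCoh.map_smul' (homOfLE hWV) _ h).symm.trans
      ((congrArg _ hh).trans (map_zero ((C.K.homology q).presheaf.map (homOfLE hWV).op).hom)))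
  obtain ⟨z, hz⟩ := surjective_homologyπ C.K hK q W.2 hW'
  obtain ⟨b₀, hb₀⟩ := exists_toCycles C.K hK q W.2 (a • z) (by
    rw [Scheme.Modules.Hom.app_smul, hz, h'])
  let w := (C.loc q W ((C.K.iCycles q).app W.1 z))
  have hR := reg_of_range b (KoszSh.secForm (cos IY) W.1) g hg ((range_secForm W).trans hgK.symm)
    (fun c hc => mul_mem_imp hreg _ J hZD W g hg hgK (ideal_eq_span (hε.res hWV)) c hc) q
  obtain ⟨η, hη, hηd⟩ := hR w.1 w.2 (by
      cases q with
      | zero =>
        have := H1KoszExt.exteriorPower_le_W b 0 w.2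
        rw [H1KoszExt.W_zero] at this
        obtain ⟨c, hc⟩ := Submodule.mem_span_singleton.1 this
        rw [← hc, map_smul, H1KoszExt.d_one, smul_zero]
      | succ p =>
        rw [S15899.d_loc, d_iCycles_app, map_zero]
        rfl)
    ⟨(C.loc (q + 1) W b₀).1, (C.loc (q + 1) W b₀).2, by
      rw [S15899.d_loc, ← toCycles_i_app, hb₀, Scheme.Modules.Hom.app_smul, map_smul]
      rfl⟩
  have hzb : (C.K.toCycles (q + 1) q).app W.1 ((C.loc (q + 1) W).symm ⟨η, hη⟩) = z := by
    refine iCycles_injective C.K q ?_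
    rw [toCycles_i_app]
    refine (C.loc q W).injective (Subtype.ext ?_)
    rw [← S15899.d_loc, LinearEquiv.apply_symm_apply]
    exact hηd
  show hW' = 0
  rw [← hz, ← hzb]
  exact congr(($(C.K.toCycles_comp_homologyπ (q + 1) q)).app W.1 _)

end Groth.Agent.H1KoszSq
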