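import Groth.Agent.H1KoszSq.Basic

/-!
# Koszul complexes of twisted divisors: the comparison map
-/

noncomputable section

set_option linter.style.haveILetI false
set_option backward.isDefEq.respectTransparency false
set_option backward.isDefEq.respectTransparency.types false

universe u

open CategoryTheory CategoryTheory.Limits AlgebraicGeometry TopologicalSpace Opposite

namespace Groth.Agent.H1KoszSq

variable {X : Scheme.{u}} {n : ℕ} (IY : Fin n → X.IdealSheafData) (J : X.IdealSheafData)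

/-- `∐ I_i`. -/
abbrev Src : X.Modules := ∐ fun i => ClSub.idealMod (IY i)

/-- The cosection. -/
abbrev cos : Src IY ⟶ Coh.structureModule X := Sigma.desc fun i => ClSub.idealModι (IY i)

/-- The twisted ideals. -/
abbrev twI : Fin n → X.IdealSheafData := fun i => IY i * J

/-- The inclusion `I_i J ⊆ I_i`. -/
lemma exists_incl (i : Fin n) : ∃ φ : ClSub.idealMod (IY i * J) ⟶ ClSub.idealMod (IY i),
    φ ≫ ClSub.idealModι (IY i) = ClSub.idealModι (IY i * J) := by
  have hw : ClSub.idealModι (IY i * J) ≫ ClSub.toSubscheme (IY i) = 0 :=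
    IdealSub.hom_eq_of_affine _ _ fun U y => by
      have hy : OmegaSh.idealSect (IY i * J) U.1 y ∈ (IY i).ideal U := by
        have := OmegaLib.idealSect_mem (IY i * J) U y
        rw [Scheme.IdealSheafData.ideal_mul, Pi.mul_apply] at this
        exact Ideal.mul_le_left this
      obtain ⟨k, hk⟩ := OmegaLib.exists_of_mem (IY i) U _ hy
      show (ClSub.toSubscheme (IY i)).app U.1 ((ClSub.idealModι (IY i * J)).app U.1 y) = _
      rw [show (ClSub.idealModι (IY i * J)).app U.1 y = (ClSub.idealModι (IY i)).app U.1 k from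
        (IdealSub.idealModι_app' _ U.1 y).trans (hk.symm.trans (IdealSub.idealModι_app' _ U.1 k).symm)]
      exact congr(($(kernel.condition (ClSub.toSubscheme (IY i)))).app U.1 k)
  exact ⟨kernel.lift _ _ hw, kernel.lift_ι _ _ _⟩

/-- The inclusion `I_i J ⊆ I_i`. -/
def incl (i : Fin n) : ClSub.idealMod (IY i * J) ⟶ ClSub.idealMod (IY i) := (exists_incl IY J i).choose

lemma incl_comp (i : Fin n) : incl IY J i ≫ ClSub.idealModι (IY i) = ClSub.idealModι (IY i * J) :=
  (exists_incl IY J i).choose_spec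

/-- The inclusion `∐ I_i J → ∐ I_i`. -/
def inclS : Src (twI IY J) ⟶ Src IY :=
  Sigma.desc fun i => incl IY J i ≫ Sigma.ι (fun i => ClSub.idealMod (IY i)) i

lemma inclS_cos : inclS IY J ≫ cos IY = cos (twI IY J) := by
  refine Sigma.hom_ext _ _ fun i => ?_
  simp [inclS, incl_comp]

/-- The projections. -/
def proj (i : Fin n) : Src IY ⟶ ClSub.idealMod (IY i) :=
  Sigma.desc fun j => if h : j = i then eqToHom (by rw [h]) else 0

lemma sum_proj : ∑ i, proj IY i ≫ Sigma.ι (fun i => ClSub.idealMod (IY i)) i = 𝟙 (Src IY) := by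
  refine Sigma.hom_ext _ _ fun j => ?_
  rw [Preadditive.comp_sum, Category.comp_id]
  rw [Finset.sum_eq_single j]
  · simp [proj]
  · intro i _ hi
    simp [proj, Ne.symm hi]
  · simp

lemma sum_app (V : X.Opens) (e : Γ(Src IY, V)) :
    ∑ i, (Sigma.ι (fun i => ClSub.idealMod (IY i)) i).app V ((proj IY i).app V e) = e := by
  have := congr(($(sum_proj IY)).app V e)
  rw [QCoh.app_sum] at this
  exact this

lemma inclS_proj (i : Fin n) : inclS IY J ≫ proj IY i = proj (twI IY J) i ≫ incl IY J i := by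
  refine Sigma.hom_ext _ _ fun j => ?_
  by_cases h : j = i
  · subst h; simp [inclS, proj]
  · simp [inclS, proj, h]

section Chart

variable {IY J} {V : X.affineOpens} {ε : Γ(ClSub.idealMod J, V.1)}

lemma incl_app_image (hε : InvX.IsFrame ε) (i : Fin n) :
    (∀ k', ∃ k, (incl IY J i).app V.1 k' = OmegaSh.idealSect J V.1 ε • k) ∧
      (∀ k, ∃ k', (incl IY J i).app V.1 k' = OmegaSh.idealSect J V.1 ε • k) ∧
      Function.Injective ((incl IY J i).app V.1) := by
  have hval : ∀ k', OmegaSh.idealSect (IY i) V.1 ((incl IY J i).app V.1 k') =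
      OmegaSh.idealSect (IY i * J) V.1 k' := fun k' => by
    rw [← IdealSub.idealModι_app', ← IdealSub.idealModι_app', ← incl_comp IY J i]
    rfl
  have hmul : (IY i * J).ideal V = (IY i).ideal V * Ideal.span {OmegaSh.idealSect J V.1 ε} := by
    rw [Scheme.IdealSheafData.ideal_mul, Pi.mul_apply, ideal_eq_span hε]
  refine ⟨fun k' => ?_, fun k => ?_, fun a b h => ?_⟩
  · have h := OmegaLib.idealSect_mem (IY i * J) V k'
    rw [hmul, Ideal.mem_mul_span_singleton] at h
    obtain ⟨z, hz, hzk⟩ := h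
    obtain ⟨k, rfl⟩ := OmegaLib.exists_of_mem (IY i) V z hz
    refine ⟨k, OmegaLib.idealSect_injective _ _ ?_⟩
    rw [hval, OmegaLib.idealSect_smul, ← hzk, mul_comm]
  · obtain ⟨k', hk'⟩ := OmegaLib.exists_of_mem (IY i * J) V
      (OmegaSh.idealSect J V.1 ε * OmegaSh.idealSect (IY i) V.1 k) (by
        rw [hmul, Ideal.mem_mul_span_singleton]
        exact ⟨_, OmegaLib.idealSect_mem (IY i) V k, mul_comm _ _⟩)
    exact ⟨k', OmegaLib.idealSect_injective _ _ (by rw [hval, OmegaLib.idealSect_smul, hk'])⟩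
  · exact OmegaLib.idealSect_injective _ _ (by rw [← hval, ← hval, h])

lemma ι_inclS (i : Fin n) :
    Sigma.ι (fun i => ClSub.idealMod (twI IY J i)) i ≫ inclS IY J =
      incl IY J i ≫ Sigma.ι (fun i => ClSub.idealMod (IY i)) i :=
  colimit.ι_desc _ _

lemma inclS_image₁ (hε : InvX.IsFrame ε) (e' : Γ(Src (twI IY J), V.1)) :
    ∃ e, (inclS IY J).app V.1 e' = OmegaSh.idealSect J V.1 ε • e := by
  choose k hk using fun i : Fin n => (incl_app_image (IY := IY) hε i).1 ((proj (twI IY J) i).app V.1 e')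
  refine ⟨∑ i, (Sigma.ι (fun i => ClSub.idealMod (IY i)) i).app V.1 (k i), ?_⟩
  refine (sum_app IY V.1 ((inclS IY J).app V.1 e')).symm.trans ?_
  rw [Finset.smul_sum]
  refine Finset.sum_congr rfl fun i _ => ?_
  have h1 : (proj IY i).app V.1 ((inclS IY J).app V.1 e') = (incl IY J i).app V.1 ((proj (twI IY J) i).app V.1 e') :=
    congr(($(inclS_proj IY J i)).app V.1 e')
  rw [h1, hk i]
  exact Scheme.Modules.Hom.app_smul _ _ _

lemma inclS_image₂ (hε : InvX.IsFrame ε) (e : Γ(Src IY, V.1)) :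
    ∃ e', (inclS IY J).app V.1 e' = OmegaSh.idealSect J V.1 ε • e := by
  choose k' hk' using fun i : Fin n => (incl_app_image (IY := IY) hε i).2.1 ((proj IY i).app V.1 e)
  refine ⟨∑ i, (Sigma.ι (fun i => ClSub.idealMod (twI IY J i)) i).app V.1 (k' i), ?_⟩
  rw [map_sum]
  refine Eq.trans ?_ (congrArg (fun z => OmegaSh.idealSect J V.1 ε • z) (sum_app IY V.1 e))
  rw [Finset.smul_sum]
  refine Finset.sum_congr rfl fun i _ => ?_
  have h1 : (inclS IY J).app V.1 ((Sigma.ι (fun i => ClSub.idealMod (twI IY J i)) i).app V.1 (k' i)) =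
      (Sigma.ι (fun i => ClSub.idealMod (IY i)) i).app V.1 ((incl IY J i).app V.1 (k' i)) :=
    congr(($(ι_inclS (IY := IY) (J := J) i)).app V.1 (k' i))
  rw [h1, hk' i]
  exact Scheme.Modules.Hom.app_smul _ _ _

lemma inclS_injective (hε : InvX.IsFrame ε) {e' : Γ(Src (twI IY J), V.1)}
    (he' : (inclS IY J).app V.1 e' = 0) : e' = 0 := by
  refine (sum_app (twI IY J) V.1 e').symm.trans ?_
  refine Finset.sum_eq_zero fun i _ => ?_
  have h1 : (proj IY i).app V.1 ((inclS IY J).app V.1 e') = (incl IY J i).app V.1 ((proj (twI IY J) i).app V.1 e') :=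
    congr(($(inclS_proj IY J i)).app V.1 e')
  rw [he', map_zero] at h1
  have h2 : (proj (twI IY J) i).app V.1 e' = 0 :=
    (incl_app_image (IY := IY) hε i).2.2 (h1.symm.trans (map_zero _).symm)
  rw [h2, map_zero]

/-- On a chart the inclusion is `a` times an isomorphism. -/
lemma exists_equiv (hε : InvX.IsFrame ε)
    (htor : ∀ e : Γ(Src IY, V.1), OmegaSh.idealSect J V.1 ε • e = 0 → e = 0) :
    ∃ ψ : Γ(Src (twI IY J), V.1) ≃ₗ[Γ(X, V.1)] Γ(Src IY, V.1),
      ∀ e, (inclS IY J).app V.1 e = OmegaSh.idealSect J V.1 ε • ψ e := by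
  have uniq : ∀ e₁ e₂ : Γ(Src IY, V.1),
      OmegaSh.idealSect J V.1 ε • e₁ = OmegaSh.idealSect J V.1 ε • e₂ → e₁ = e₂ := fun e₁ e₂ h =>
    sub_eq_zero.1 (htor _ (by rw [smul_sub, h, sub_self]))
  choose f hf using inclS_image₁ (IY := IY) hε
  let L : Γ(Src (twI IY J), V.1) →ₗ[Γ(X, V.1)] Γ(Src IY, V.1) :=
    { toFun := f
      map_add' := fun a b => uniq _ _ (by rw [← hf, map_add, hf, hf, smul_add])
      map_smul' := fun r a => uniq _ _ (by
        rw [RingHom.id_apply, ← hf, Scheme.Modules.Hom.app_smul, hf, smul_comm]) }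
  refine ⟨LinearEquiv.ofBijective L ⟨(injective_iff_map_eq_zero L).2 fun e he => inclS_injective hε ?_,
    fun e => ?_⟩, hf⟩
  · rw [hf, show f e = 0 from he, smul_zero]
  · obtain ⟨e', he'⟩ := inclS_image₂ (IY := IY) hε e
    exact ⟨e', uniq _ _ ((hf e').symm.trans he')⟩

end Chart

/-- A chart: a frame of the ideal and bases. -/
def IsChart (V : X.affineOpens) : Prop :=
  (∃ ε : Γ(ClSub.idealMod J, V.1), InvX.IsFrame ε) ∧
    ∃ k : ℕ, Nonempty (Module.Basis (Fin k) Γ(X, V.1) Γ(Src IY, V.1))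

lemma isFinLocFree_src (hY : ∀ i, BlowUp.IsEffCartierIdeal (IY i)) : FlatMod.IsFinLocFree (Src IY) :=
  KFlatLib.isFinLocFree_sigma _ Finset.univ (fun i h => absurd (Finset.mem_univ i) h) fun i =>
    H23.PullPush.isFinLocFree_of_isInvertible ((S8914.result (IY i)).2 (hY i))

lemma covers_chart (hY : ∀ i, BlowUp.IsEffCartierIdeal (IY i)) (hJ : BlowUp.IsEffCartierIdeal J) :
    Covers (IsChart IY J) := fun U x hx => by
  obtain ⟨V, hxV, hVU, ε, hε, hb⟩ := H1KoszTw.exists_chart (F := Src IY) (L := ClSub.idealMod J)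
    (isFinLocFree_src IY hY) ((S8914.result J).2 hJ) hx
  exact ⟨V, ⟨⟨ε, hε⟩, hb⟩, hxV, hVU⟩

variable {IY J} {s : Src IY ⟶ Coh.structureModule X}

lemma smul_pow_eq_zero (C : KoszSh.Cx (Src IY) s) {V : X.affineOpens} {k : ℕ}
    (b : Module.Basis (Fin k) Γ(X, V.1) Γ(Src IY, V.1)) {a : Γ(X, V.1)} (ha : ∀ r, r * a = 0 → r = 0)
    (p : ℕ) : ∀ (m : ℕ) {w : Γ(C.K.X p, V.1)}, a ^ m • w = 0 → w = 0
  | 0, w, h => by simpa using h
  | m + 1, w, h => by
    rw [pow_succ, mul_smul] at h
    have h2 := smul_pow_eq_zero C b ha p m h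
    refine (C.loc p V).injective ?_
    rw [map_zero]
    refine H1KoszTw.smul_exteriorPower_eq_zero b ha p ?_
    rw [← map_smul, h2, map_zero]

/-- On a chart the comparison map is `a ^ p` times a bijection. -/
lemma exists_theta_equiv (C : KoszSh.Cx (Src IY) (cos IY)) (C' : KoszSh.Cx (Src (twI IY J)) (cos (twI IY J)))
    (θ : C'.K ⟶ C.K)
    (hθ : ∀ (p : ℕ) (U : X.affineOpens) (e : Fin p → Γ(Src (twI IY J), U.1)),
      (θ.f p).app U.1 ((C'.loc p U).symm (exteriorPower.ιMulti _ p e)) =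
        (C.loc p U).symm (exteriorPower.ιMulti _ p (fun j => (inclS IY J).app U.1 (e j))))
    {V : X.affineOpens} {ε : Γ(ClSub.idealMod J, V.1)} (hε : InvX.IsFrame ε) {k : ℕ}
    (b : Module.Basis (Fin k) Γ(X, V.1) Γ(Src IY, V.1)) (p : ℕ) :
    ∃ Ψ : Γ(C'.K.X p, V.1) ≃ₗ[Γ(X, V.1)] Γ(C.K.X p, V.1),
      ∀ w, (θ.f p).app V.1 w = OmegaSh.idealSect J V.1 ε ^ p • Ψ w := by
  have htor : ∀ e : Γ(Src IY, V.1), OmegaSh.idealSect J V.1 ε • e = 0 → e = 0 := fun e he => by
    refine b.repr.injective ?_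
    rw [map_zero]
    ext i
    refine eq_zero_of_mul hε ?_
    have := DFunLike.congr_fun (congrArg b.repr he) i
    rw [map_smul, map_zero, Finsupp.smul_apply, Finsupp.zero_apply, smul_eq_mul] at this
    rw [mul_comm]
    exact this
  obtain ⟨ψ, hψ⟩ := exists_equiv hε htor
  have hbij : Function.Bijective (exteriorPower.map p ψ.toLinearMap) := by
    refine Function.bijective_iff_has_inverse.2 ⟨exteriorPower.map p ψ.symm.toLinearMap,
      fun z => ?_, fun z => ?_⟩
    · rw [← LinearMap.comp_apply, ← exteriorPower.map_comp, LinearEquiv.symm_comp, exteriorPower.map_id]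
      rfl
    · rw [← LinearMap.comp_apply, ← exteriorPower.map_comp, LinearEquiv.comp_symm, exteriorPower.map_id]
      rfl
  let Ψ := ((C'.loc p V).trans (LinearEquiv.ofBijective _ hbij)).trans (C.loc p V).symm
  refine ⟨Ψ, fun w => S15900.eq_of_eqOn_gen (C'.loc p V) (S15900.appLin (θ.f p) V.1)
    (OmegaSh.idealSect J V.1 ε ^ p • Ψ.toLinearMap) (fun e => ?_) w⟩
  show (θ.f p).app V.1 ((C'.loc p V).symm (exteriorPower.ιMulti _ p e)) =
    OmegaSh.idealSect J V.1 ε ^ p •
      (C.loc p V).symm (exteriorPower.map p ψ.toLinearMap (C'.loc p V ((C'.loc p V).symm (exteriorPower.ιMulti _ p e))))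
  rw [hθ, LinearEquiv.apply_symm_apply, exteriorPower.map_apply_ιMulti, ← map_smul]
  refine congrArg _ ?_
  have := (exteriorPower.ιMulti Γ(X, V.1) p (M := Γ(Src IY, V.1))).map_smul_univ
    (fun _ => OmegaSh.idealSect J V.1 ε) (fun j => ψ (e j))
  rw [Finset.prod_const, Finset.card_univ, Fintype.card_fin] at this
  simp only [hψ]
  exact this

end Groth.Agent.H1KoszSq
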